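import Groth.Agent.ASBunKS.Spread
import Groth.Agent.S4805

/-!
# A splitting over any extension gives a splitting over a finite one
-/

set_option autoImplicit false
set_option backward.isDefEq.respectTransparency false
set_option backward.defeqAttrib.useBackward true
set_option linter.style.haveILetI false
set_option linter.unusedSectionVars false

universe u

open CategoryTheory CategoryTheory.Limits AlgebraicGeometry
open W4c1astiltbs12

noncomputable section

namespace Groth.Agent.BSSplitLib

variable {k : Type u} [Field k] {X : Scheme.{u}} {f : X ⟶ Spec (CommRingCat.of k)} {n : ℕ}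

theorem exists_finite_splitting [IsProper f] {K : Type u} [Field K] [Algebra k K]
    (e : BrSev.Splitting f K n) :
    ∃ (E : Type u) (_ : Field E) (_ : Algebra k E),
      FiniteDimensional k E ∧ Nonempty (BrSev.Splitting f E n) := by
  classical
  let Af : Finset K → Subalgebra k K := fun s => Algebra.adjoin k (s : Set K)
  have hmono : ∀ {s t : Finset K}, s ≤ t → Af s ≤ Af t := fun h =>
    Algebra.adjoin_mono (Finset.coe_subset.mpr h)
  let F : Finset K ⥤ CommRingCat.{u} :=
    { obj := fun s => CommRingCat.of (Af s)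
      map := fun {s t} h => CommRingCat.ofHom (Subalgebra.inclusion (hmono h.le)).toRingHom
      map_id := fun s => CommRingCat.hom_ext (RingHom.ext fun x => Subtype.ext rfl)
      map_comp := fun h h' => CommRingCat.hom_ext (RingHom.ext fun x => Subtype.ext rfl) }
  let c : Cocone F :=
    { pt := CommRingCat.of K
      ι :=
        { app := fun s => CommRingCat.ofHom (Af s).val.toRingHom
          naturality := fun s t h => CommRingCat.hom_ext (RingHom.ext fun x => rfl) } }
  obtain ⟨hc⟩ := AffLim.nonempty_isColimit_of_elementwise c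
    (fun x => ⟨{x}, ⟨x, Algebra.subset_adjoin (by simp)⟩, rfl⟩)
    (fun S x y h => ⟨S, le_rfl, by rw [show x = y from Subtype.ext h]⟩)
  let D : (Finset K)ᵒᵖ ⥤ Scheme.{u} := F.op ⋙ Scheme.Spec
  let c' : Cone D := Scheme.Spec.mapCone c.op
  have hc' : IsLimit c' := isLimitOfPreserves Scheme.Spec hc.op
  haveI : ∀ (i j : (Finset K)ᵒᵖ) (a : i ⟶ j), IsAffineHom (D.map a) := fun i j a =>
    inferInstanceAs (IsAffineHom (Spec.map _))
  let i₀ : (Finset K)ᵒᵖ := Opposite.op ∅
  let π : ∀ s : Finset K, CommRingCat.of k ⟶ F.obj s := fun s => CommRingCat.ofHom (algebraMap k (Af s))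
  haveI : IsIso (π ∅) := by
    rw [ConcreteCategory.isIso_iff_bijective]
    refine ⟨fun a b hab => (algebraMap k K).injective (congrArg Subtype.val hab), fun ⟨x, hx⟩ => ?_⟩
    have hx' : x ∈ Algebra.adjoin k ((∅ : Finset K) : Set K) := hx
    rw [Finset.coe_empty, Algebra.adjoin_empty, Algebra.mem_bot] at hx'
    obtain ⟨a, ha⟩ := hx'
    exact ⟨a, Subtype.ext ha⟩
  let p : D.obj i₀ ⟶ Spec (CommRingCat.of k) := Spec.map (π ∅)
  haveI : IsIso p := inferInstanceAs (IsIso (Spec.map (π ∅)))
  let a : X ⟶ D.obj i₀ := f ≫ inv p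
  haveI : CompactSpace X := QuasiCompact.compactSpace_of_compactSpace f
  haveI : QuasiSeparated a := by
    show QuasiSeparated (f ≫ inv p)
    infer_instance
  let B := AffLim.baseChange D i₀ a
  obtain ⟨hB⟩ := AffLim.nonempty_isLimit_baseChangeCone D c' hc' i₀ a
  let C := AffLim.baseChangeCone D c' i₀ a
  haveI : ∀ j, QuasiSeparatedSpace (B.obj j) := fun j => by
    haveI : QuasiSeparatedSpace X := quasiSeparatedSpace_of_quasiSeparated f
    haveI : IsAffineHom (pullback.fst a (D.map j.hom)) :=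
      MorphismProperty.pullback_fst (P := @IsAffineHom) a (D.map j.hom) inferInstance
    exact quasiSeparatedSpace_of_quasiSeparated (pullback.fst a (D.map j.hom))
  let t : B ⟶ (Functor.const _).obj (Spec (CommRingCat.of k)) :=
    { app := fun j => pullback.fst a (D.map j.hom) ≫ f
      naturality := fun i j g => by simp [B] }
  have hp : c'.π.app i₀ ≫ p = Spec.map (CommRingCat.ofHom (algebraMap k K)) := by
    show Spec.map (c.ι.app ∅) ≫ Spec.map (π ∅) = _
    rw [← Spec.map_comp]
    rfl
  let ε : C.pt ⟶ BrSev.bc f K := pullback.map _ _ _ _ (𝟙 X) (𝟙 _) p (by simp [a]) (by rw [hp, Category.id_comp])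
  haveI : IsIso ε := inferInstanceAs (IsIso (pullback.map _ _ _ _ _ _ _ _ _))
  let h : BrSev.bc f K ⟶ CohB1.ProjSpace n k := e.iso.hom ≫ GenSeesawLib.bcMap n k K
  haveI : LocallyOfFiniteType (CohB1.ProjSpace.toSpec n k) := inferInstance
  haveI : LocallyOfFinitePresentation (CohB1.ProjSpace.toSpec n k) :=
    LocallyOfFinitePresentation.iff_locallyOfFiniteType.2 inferInstance
  have hh : h ≫ CohB1.ProjSpace.toSpec n k = BrSev.proj f K ≫ f := by
    rw [Category.assoc, (GenSeesawLib.isPullback_bcMap n k K).w, ← Category.assoc, e.comm]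
    exact pullback.condition.symm
  obtain ⟨j, g, hg, hgf⟩ := Scheme.exists_π_app_comp_eq_of_locallyOfFinitePresentation B t
    (CohB1.ProjSpace.toSpec n k) C hB (ε ≫ h) (by
      ext j
      simp only [NatTrans.comp_app, Functor.const_map_app, Category.assoc, hh]
      simp [t, C, ε])
  let s : Finset K := j.left.unop
  let A : Type u := ↥(Af s)
  have hj : D.map j.hom ≫ p = Spec.map (CommRingCat.ofHom (algebraMap k A)) := by
    show Spec.map (F.map j.hom.unop) ≫ Spec.map (π ∅) = _
    rw [← Spec.map_comp]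
    rfl
  let sA : Spec (CommRingCat.of A) ⟶ Spec (CommRingCat.of k) := Spec.map (CommRingCat.ofHom (algebraMap k A))
  let XA := pullback f sA
  let sK : Spec (CommRingCat.of K) ⟶ Spec (CommRingCat.of A) := Spec.map (CommRingCat.ofHom (algebraMap A K))
  have hsK : Spec.map (CommRingCat.ofHom (algebraMap k K)) = sK ≫ sA := by
    rw [← Spec.map_comp]
    rfl
  let εA : XA ⟶ B.obj j := pullback.map _ _ _ _ (𝟙 X) (𝟙 _) (inv p) (by simp [a]) (by
    rw [Category.id_comp, ← cancel_mono p, Category.assoc, IsIso.inv_hom_id, Category.comp_id]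
    exact hj.symm)
  let hP := GenSeesawLib.isPullback_bcMap n k A
  have hεf : εA ≫ t.app j = pullback.fst f sA ≫ f := by simp [εA, t, XA]
  let gA : XA ⟶ CohB1.ProjSpace n A :=
    hP.lift (εA ≫ g) (pullback.snd f sA) (by rw [Category.assoc, hgf, hεf]; exact pullback.condition)
  have hg1 : gA ≫ GenSeesawLib.bcMap n k A = εA ≫ g := hP.lift_fst _ _ _
  have hg2 : gA ≫ CohB1.ProjSpace.toSpec n A = pullback.snd f sA := hP.lift_snd _ _ _
  let qX : BrSev.bc f K ⟶ XA :=
    pullback.lift (BrSev.proj f K) (BrSev.bcTo f K ≫ sK) (by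
      rw [Category.assoc, ← hsK]; exact pullback.condition)
  have hqX : IsPullback qX (BrSev.bcTo f K) (pullback.snd f sA) sK := by
    refine IsPullback.of_right ?_ (pullback.lift_snd _ _ _) (IsPullback.of_hasPullback f sA)
    rw [pullback.lift_fst, ← hsK]
    exact IsPullback.of_hasPullback f _
  have hK := GenSeesawLib.isPullback_bcMap n A K
  have hcm : e.iso.hom ≫ GenSeesawLib.bcMap n A K = qX ≫ gA := by
    refine hP.hom_ext ?_ ?_
    · rw [Category.assoc, Category.assoc, hg1, ASBunKS.bcMap_tower n k A K]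
      have h2 : qX ≫ εA = inv ε ≫ C.π.app j := by
        rw [IsIso.eq_inv_comp]
        apply pullback.hom_ext
        · simp [εA, ε, C, qX, XA]
        · simp [εA, ε, C, qX, XA]
          rfl
      rw [← Category.assoc, h2, Category.assoc, hg, IsIso.inv_hom_id_assoc]
    · rw [Category.assoc, Category.assoc, hg2, hK.w, ← Category.assoc, e.comm]
      exact (pullback.lift_snd _ _ _).symm
  have hsq : IsPullback qX e.iso.hom gA (GenSeesawLib.bcMap n A K) := by
    refine IsPullback.of_bot ?_ hcm.symm hK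
    rw [e.comm, hg2]
    exact hqX
  haveI : IsProper (gA ≫ CohB1.ProjSpace.toSpec n A) := by
    rw [hg2]
    exact MorphismProperty.pullback_snd (P := @IsProper) f sA inferInstance
  haveI : IsNoetherianRing A :=
    isNoetherianRing_of_fg ((Subalgebra.fg_def).2 ⟨_, s.finite_toSet, rfl⟩)
  haveI : LocallyOfFinitePresentation (gA ≫ CohB1.ProjSpace.toSpec n A) :=
    LocallyOfFinitePresentation.iff_locallyOfFiniteType.2 inferInstance
  haveI : CompactSpace ↥(D.obj j.left) := inferInstanceAs (CompactSpace (PrimeSpectrum A))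
  haveI : IsIso e.iso.hom := inferInstance
  obtain ⟨i, φ, Xi, Yi, fi, gi, pY, pX, hYi, hXi, hfi⟩ :=
    S4805.result D c' hc' j.left gA (CohB1.ProjSpace.toSpec n A) e.iso.hom (CohB1.ProjSpace.toSpec n K)
      (GenSeesawLib.bcMap n A K) qX hK hsq
  let s' : Finset K := i.unop
  let A' : Type u := ↥(Af s')
  haveI : Algebra.FiniteType k A' :=
    (Subalgebra.fg_iff_finiteType _).1 ((Subalgebra.fg_def).2 ⟨_, s'.finite_toSet, rfl⟩)
  obtain ⟨m, hm⟩ := Ideal.exists_maximal A'
  letI : Field (A' ⧸ m) := Ideal.Quotient.field m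
  haveI : Algebra.FiniteType k (A' ⧸ m) :=
    Algebra.FiniteType.of_surjective (Ideal.Quotient.mkₐ k m) (Ideal.Quotient.mkₐ_surjective k m)
  haveI : Module.Finite k (A' ⧸ m) := finite_of_finite_type_of_isJacobsonRing k (A' ⧸ m)
  refine ⟨A' ⧸ m, inferInstance, inferInstance, inferInstance, ?_⟩
  let ψ : CommRingCat.of A ⟶ CommRingCat.of (A' ⧸ m) :=
    (show CommRingCat.of A ⟶ CommRingCat.of A' from F.map φ.unop) ≫ CommRingCat.ofHom (Ideal.Quotient.mk m)
  letI : Algebra A (A' ⧸ m) := ψ.hom.toAlgebra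
  haveI : IsScalarTower k A (A' ⧸ m) := IsScalarTower.of_algebraMap_eq' rfl
  let hE := GenSeesawLib.isPullback_bcMap n A (A' ⧸ m)
  let l : CohB1.ProjSpace n (A' ⧸ m) ⟶ Yi :=
    hYi.lift (GenSeesawLib.bcMap n A (A' ⧸ m))
      (CohB1.ProjSpace.toSpec n (A' ⧸ m) ≫ Spec.map (CommRingCat.ofHom (Ideal.Quotient.mk m))) (by
      rw [hE.w, Category.assoc]
      congr 1
      show Spec.map ψ = _ ≫ Spec.map (F.map φ.unop)
      rw [← Spec.map_comp])
  have hl : l ≫ pY = GenSeesawLib.bcMap n A (A' ⧸ m) := hYi.lift_fst _ _ _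
  haveI := hfi
  have h1 : IsPullback (l ≫ inv fi) (𝟙 (CohB1.ProjSpace n (A' ⧸ m))) fi l :=
    IsPullback.of_vert_isIso ⟨by simp⟩
  have h2 := h1.paste_horiz hXi
  rw [hl] at h2
  have h3 := h2.paste_vert hE
  rw [hg2, Category.id_comp] at h3
  have h4 := h3.paste_horiz (IsPullback.of_hasPullback f sA).flip.flip
  have hEk : Spec.map (CommRingCat.ofHom (algebraMap A (A' ⧸ m))) ≫ sA =
      Spec.map (CommRingCat.ofHom (algebraMap k (A' ⧸ m))) := by
    rw [← Spec.map_comp]
    rfl
  rw [hEk] at h4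
  exact ⟨⟨(h4.isoIsPullback _ _ (IsPullback.of_hasPullback f _)).symm,
    (Iso.inv_comp_eq _).2 (h4.isoIsPullback_hom_snd _ _ (IsPullback.of_hasPullback f _)).symm⟩⟩

end Groth.Agent.BSSplitLib
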