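import Groth.Agent.BSSplitLib.Finite
import Groth.Agent.ASBunKS.Point
import Groth.Agent.S10872
import Groth.Agent.SepPtsLib.Torsor

/-!
# Rational points split forms of projective space; splitting over Galois extensions
-/

set_option autoImplicit false
set_option backward.isDefEq.respectTransparency false
set_option backward.defeqAttrib.useBackward true
set_option linter.style.haveILetI false
set_option linter.unusedSectionVars false

universe u

open CategoryTheory CategoryTheory.Limits AlgebraicGeometry

noncomputable section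

namespace Groth.Agent.BSSplitLib

variable {k : Type u} [Field k] {X : Scheme.{u}} {f : X ⟶ Spec (CommRingCat.of k)} {n : ℕ}

theorem exists_tower_iso (L M : Type u) [Field L] [Field M] [Algebra k L] [Algebra k M] [Algebra L M]
    [IsScalarTower k L M] :
    ∃ ε : BrSev.bc (BrSev.bcTo f L) M ≅ BrSev.bc f M, ε.hom ≫ BrSev.bcTo f M = BrSev.bcTo (BrSev.bcTo f L) M := by
  have h : Spec.map (CommRingCat.ofHom (algebraMap L M)) ≫ Spec.map (CommRingCat.ofHom (algebraMap k L)) =
      Spec.map (CommRingCat.ofHom (algebraMap k M)) := by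
    rw [← Spec.map_comp, ← CommRingCat.ofHom_comp, ← IsScalarTower.algebraMap_eq]
  refine ⟨pullbackLeftPullbackSndIso _ _ _ ≪≫ pullback.congrHom rfl h, ?_⟩
  simp [pullback.congrHom_hom]

theorem nonempty_splitting_up (L M : Type u) [Field L] [Field M] [Algebra k L] [Algebra k M] [Algebra L M]
    [IsScalarTower k L M] (e : BrSev.Splitting f M n) : Nonempty (BrSev.Splitting (BrSev.bcTo f L) M n) := by
  obtain ⟨ε, hε⟩ := exists_tower_iso (f := f) L M
  exact ⟨⟨ε ≪≫ e.iso, by rw [Iso.trans_hom, Category.assoc, e.comm, hε]⟩⟩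

theorem nonempty_splitting_down (L M : Type u) [Field L] [Field M] [Algebra k L] [Algebra k M] [Algebra L M]
    [IsScalarTower k L M] (e : BrSev.Splitting (BrSev.bcTo f L) M n) : Nonempty (BrSev.Splitting f M n) := by
  obtain ⟨ε, hε⟩ := exists_tower_iso (f := f) L M
  exact ⟨⟨ε.symm ≪≫ e.iso, by rw [Iso.trans_hom, Category.assoc, e.comm, Iso.symm_hom, ← hε, Iso.inv_hom_id_assoc]⟩⟩

theorem isProper (hf : W4bk4gw11416.IsBrauerSeveri f) : IsProper f := by
  obtain ⟨-, -, N, i, hi, hif⟩ := S10872.result k f hf
  rw [← hif]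
  haveI : IsProper (CohB1.ProjSpace.toSpec N k) := inferInstance
  infer_instance

/-- A form of projective space with a rational point is split. -/
theorem nonempty_splitting_of_point [IsProper f] {K : Type u} [Field K] [Algebra k K]
    (e : BrSev.Splitting f K n) (x : Spec (CommRingCat.of k) ⟶ X) (hx : x ≫ f = 𝟙 _) :
    Nonempty (BrSev.Splitting f k n) := by
  obtain ⟨E, _, _, hfin, ⟨eE⟩⟩ := exists_finite_splitting e
  exact ASBunKS.nonempty_splitting_of_point eE x hx

theorem nonempty_splitting_separableClosure [IsProper f] [Smooth f] [Surjective f] {K : Type u} [Field K]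
    [Algebra k K] (e : BrSev.Splitting f K n) : Nonempty (BrSev.Splitting f (SeparableClosure k) n) := by
  obtain ⟨E, _, _, hfin, ⟨eE⟩⟩ := exists_finite_splitting e
  let ks := SeparableClosure k
  let Ω := AlgebraicClosure ks
  haveI : Algebra.IsAlgebraic k E := Algebra.IsAlgebraic.of_finite k E
  obtain ⟨eΩ⟩ := ASBunKS.exists_splitting_of_algHom eE (IsAlgClosed.lift : E →ₐ[k] Ω)
  obtain ⟨eΩ'⟩ := nonempty_splitting_up ks Ω eΩ
  haveI : IsProper (BrSev.bcTo f ks) := MorphismProperty.pullback_snd (P := @IsProper) _ _ inferInstance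
  haveI : Smooth (BrSev.bcTo f ks) := MorphismProperty.pullback_snd (P := @Smooth) _ _ inferInstance
  haveI : Surjective (BrSev.bcTo f ks) := MorphismProperty.pullback_snd (P := @Surjective) _ _ inferInstance
  obtain ⟨x, hx⟩ := SepPtsLib.exists_lift_of_smooth_surjective ks (BrSev.bcTo f ks) (𝟙 _)
  obtain ⟨eks⟩ := nonempty_splitting_of_point eΩ' x hx
  exact nonempty_splitting_down ks ks eks

/-- A form of projective space splits over a finite Galois extension. -/
theorem exists_galois_splitting [IsProper f] [Smooth f] [Surjective f] {K : Type u} [Field K]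
    [Algebra k K] (e : BrSev.Splitting f K n) :
    ∃ (L : Type u) (_ : Field L) (_ : Algebra k L),
      FiniteDimensional k L ∧ IsGalois k L ∧ Nonempty (BrSev.Splitting f L n) := by
  obtain ⟨eks⟩ := nonempty_splitting_separableClosure e
  obtain ⟨E, hfin, ⟨eE⟩⟩ := ASBunKS.exists_finite_splitting eks
  haveI := hfin
  let L := IntermediateField.normalClosure k E (SeparableClosure k)
  obtain ⟨eL⟩ := ASBunKS.exists_splitting_of_algHom eE (IntermediateField.inclusion E.le_normalClosure :
    E →ₐ[k] L)
  haveI : FiniteDimensional k L := inferInstance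
  haveI : Normal k L := inferInstance
  haveI : Algebra.IsSeparable k L := inferInstance
  exact ⟨L, inferInstance, inferInstance, inferInstance, ⟨⟩, ⟨eL⟩⟩

end Groth.Agent.BSSplitLib
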